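import Cfsg.Agent.Lib.Solv.FourFree.Factor
import Cfsg.Agent.Lib.Fusion.ThompsonNPC
import Cfsg.Agent.Lib.Fusion.QdNoControl
import Cfsg.Agent.S1996

/-!
# The centre and the Thompson subgroup control fusion in groups free of `S₄`
-/

set_option autoImplicit false
set_option linter.style.haveILetI false

namespace Cfsg.Agent.Solv.FourFree

open Cfsg.Agent.Fusion (cj SylIn)

universe u

theorem induced_center {Y : Type u} [Group Y] (P : Subgroup Y) :
    Cfsg.inducedFunctor (fun Q _ => Subgroup.center Q) P = P ⊓ Subgroup.centralizer (P : Set Y) := by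
  ext y
  constructor
  · rintro ⟨⟨z, hzP⟩, hz, rfl⟩
    exact ⟨hzP, Subgroup.mem_centralizer_iff.2 fun q hq =>
      congrArg Subtype.val (Subgroup.mem_center_iff.1 hz ⟨q, hq⟩)⟩
  · rintro ⟨hy, hyc⟩
    exact ⟨⟨y, hy⟩, Subgroup.mem_center_iff.2 fun q => Subtype.ext (Subgroup.mem_centralizer_iff.1 hyc q q.2), rfl⟩

/-- The pair controls strong fusion. -/
theorem pair_controls {Y : Type u} [Group Y] [Finite Y] (hS4 : ¬ Cfsg.Involves (Equiv.Perm (Fin 4)) Y) :
    Cfsg.FamilyControlsStrongFusionIn 2 {Cfsg.inducedFunctor (G := Y) (fun Q _ => Subgroup.center Q),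
      Cfsg.inducedFunctor (G := Y) (fun Q _ => Cfsg.thompsonSubgroup 2 Q)} ⊤ := by
  haveI : Fact (Nat.Prime 2) := ⟨Nat.prime_two⟩
  refine S1996.result _ _ Fusion.isCharPFunctor_center Fusion.isCharPFunctor_thompson
    fun K R hR hc T x => ?_
  have hfree : ¬ Cfsg.Involves (Equiv.Perm (Fin 4)) (↥K ⧸ R.subgroupOf K) := fun h =>
    hS4 (Fusion.involves_trans h (Fusion.involves_section Fusion.involves_refl K R))
  obtain ⟨c, hc', n, hn, rfl⟩ := factor hc hfree T x
  refine ⟨c, ?_, n, hn, rfl⟩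
  rw [induced_center]
  exact Subgroup.centralizer_le_normalizer _ hc'

/-- A group with a section `Qd(p)` has no controlling family. -/
theorem not_controls_qd {Y : Type u} [Group Y] [Finite Y] {p : ℕ} [Fact p.Prime] (e : Y ≃* ↥(Cfsg.qd p))
    {𝓦 : Set (∀ (Q : Type u) [Group Q], Subgroup Q)} (h𝓦 : ∀ W ∈ 𝓦, Cfsg.IsCharPFunctor.{u} p W)
    (h : Cfsg.FamilyControlsStrongFusionIn p ((fun W => Cfsg.inducedFunctor (G := Y) W) '' 𝓦) ⊤) : False := by
  obtain ⟨T, -, hp, hd, hf⟩ := h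
  obtain ⟨P, rfl⟩ := Fusion.SylIn.exists_sylow (⟨le_top, hp, hd⟩ : SylIn p T ⊤)
  refine Fusion.not_familyControls_qd e h𝓦 _ ⟨P, rfl⟩ fun A g hA hg => ?_
  obtain ⟨n, c, h0, hstep, -, he⟩ := hf A g trivial (hA P) (hg P)
  refine ⟨n, c, h0, fun i => ?_, he⟩
  obtain ⟨_, ⟨W, hW, rfl⟩, hmem⟩ := hstep i
  exact ⟨W, hW, hmem.2⟩

/-- The two functors. -/
def pairFam : Set (∀ (Q : Type u) [Group Q], Subgroup Q) :=
  Set.insert (fun (Q : Type u) (_ : Group Q) => Subgroup.center Q)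
    {fun (Q : Type u) (_ : Group Q) => Cfsg.thompsonSubgroup 2 Q}

theorem pairFam_char [Fact (Nat.Prime 2)] : ∀ W ∈ pairFam.{u}, Cfsg.IsCharPFunctor.{u} 2 W := by
  intro W hW
  rcases hW with rfl | hW
  · exact Fusion.isCharPFunctor_center
  · rw [Set.mem_singleton_iff.1 hW]; exact Fusion.isCharPFunctor_thompson

theorem pairFam_image (Y : Type u) [Group Y] :
    (fun W => Cfsg.inducedFunctor (G := Y) W) '' pairFam.{u} =
      {Cfsg.inducedFunctor (G := Y) (fun Q _ => Subgroup.center Q),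
        Cfsg.inducedFunctor (G := Y) (fun Q _ => Cfsg.thompsonSubgroup 2 Q)} :=
  Set.image_pair ..

end Cfsg.Agent.Solv.FourFree
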